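import Mathlib

/-!
# A commutator lemma for the S2944 route (helper85)

`jc_key`: in a group, let `x` and `a` both centralise a set `Z` all of whose elements have odd
order, let `a` invert `x`, and let `y` satisfy `x⁻¹ * (y⁻¹ * x * y) ∈ Z` and
`y⁻¹ * (a⁻¹ * y * a) ∈ Z`.  Then `y` centralises `x`.
-/

set_option autoImplicit false

namespace Cfsg.Agent.H85.Jc

universe u

/-- An element of odd order that is inverted by conjugation with an element of odd order is 1. -/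
theorem eq_one_of_conj_inv {X : Type u} [Group X] (c d : X) (hc : Odd (orderOf c))
    (hd : Odd (orderOf d)) (h : d⁻¹ * c * d = c⁻¹) : c = 1 := by
  -- `d^2` commutes with `c`
  have h2 : (d ^ 2)⁻¹ * c * d ^ 2 = c := by
    have : (d ^ 2)⁻¹ * c * d ^ 2 = d⁻¹ * (d⁻¹ * c * d) * d := by
      rw [pow_two]; group
    rw [this, h]
    have h' : d⁻¹ * c⁻¹ * d = (d⁻¹ * c * d)⁻¹ := by group
    rw [h', h, inv_inv]
  have hcomm2 : Commute (d ^ 2) c := by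
    unfold Commute SemiconjBy
    calc d ^ 2 * c = d ^ 2 * ((d ^ 2)⁻¹ * c * d ^ 2) := by rw [h2]
      _ = c * d ^ 2 := by group
  -- `d` is a power of `d^2`
  obtain ⟨k, hk⟩ := hd
  have hdpow : d = (d ^ 2) ^ (k + 1) := by
    rw [← pow_mul]
    have : 2 * (k + 1) = orderOf d + 1 := by omega
    rw [this, pow_succ, pow_orderOf_eq_one, one_mul]
  have hcomm : Commute d c := by
    rw [hdpow]
    exact hcomm2.pow_left _
  have hcc : c = c⁻¹ := by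
    have : d⁻¹ * c * d = c := by
      have := hcomm.eq
      calc d⁻¹ * c * d = d⁻¹ * (c * d) := by group
        _ = d⁻¹ * (d * c) := by rw [this]
        _ = c := by group
    rw [this] at h
    exact h
  have hc2 : c ^ 2 = 1 := by
    rw [pow_two]
    nth_rewrite 1 [hcc]
    group
  have hdvd : orderOf c ∣ 2 := orderOf_dvd_of_pow_eq_one hc2
  have h1 : orderOf c = 1 := by
    rcases (Nat.dvd_prime Nat.prime_two).mp hdvd with h1 | h2
    · exact h1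
    · rw [h2] at hc; exact absurd hc (by decide)
  exact orderOf_eq_one_iff.mp h1

/-- KEY: `x`, `a` centralise `Z` (elements of odd order), `a` inverts `x`, and `y` commutes with
`x` and with `a` modulo `Z`.  Then `y` commutes with `x`. -/
theorem jc_key {X : Type u} [Group X] (Z : Set X) (hZ : ∀ z ∈ Z, Odd (orderOf z)) (x a y : X)
    (hxZ : ∀ z ∈ Z, x * z = z * x) (haZ : ∀ z ∈ Z, a * z = z * a)
    (hax : a⁻¹ * x * a = x⁻¹)
    (hxy : x⁻¹ * (y⁻¹ * x * y) ∈ Z) (hya : y⁻¹ * (a⁻¹ * y * a) ∈ Z) :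
    y⁻¹ * x * y = x := by
  obtain ⟨c, hc⟩ : ∃ c, c = x⁻¹ * (y⁻¹ * x * y) := ⟨_, rfl⟩
  obtain ⟨d, hd⟩ : ∃ d, d = y⁻¹ * (a⁻¹ * y * a) := ⟨_, rfl⟩
  have hcZ : c ∈ Z := hc ▸ hxy
  have hdZ : d ∈ Z := hd ▸ hya
  have e1 : y⁻¹ * x * y = x * c := by rw [hc]; group
  have e2 : a⁻¹ * y * a = y * d := by rw [hd]; group
  have hxc := hxZ c hcZ
  have hxd := hxZ d hdZ
  have hac := haZ c hcZ
  -- conjugate `y⁻¹ x y = x c` by `a`
  have l1 : a⁻¹ * (y⁻¹ * x * y) * a = d⁻¹ * c⁻¹ * d * x⁻¹ := by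
    have : a⁻¹ * (y⁻¹ * x * y) * a = (a⁻¹ * y * a)⁻¹ * (a⁻¹ * x * a) * (a⁻¹ * y * a) := by group
    rw [this, hax, e2]
    have : (y * d)⁻¹ * x⁻¹ * (y * d) = d⁻¹ * (y⁻¹ * x * y)⁻¹ * d := by group
    rw [this, e1]
    have hxd' : x⁻¹ * d = d * x⁻¹ := by
      calc x⁻¹ * d = x⁻¹ * (d * x) * x⁻¹ := by group
        _ = x⁻¹ * (x * d) * x⁻¹ := by rw [hxd]
        _ = d * x⁻¹ := by group
    calc d⁻¹ * (x * c)⁻¹ * d = d⁻¹ * c⁻¹ * (x⁻¹ * d) := by group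
      _ = d⁻¹ * c⁻¹ * (d * x⁻¹) := by rw [hxd']
      _ = d⁻¹ * c⁻¹ * d * x⁻¹ := by group
  have l2 : a⁻¹ * (y⁻¹ * x * y) * a = c * x⁻¹ := by
    rw [e1]
    have : a⁻¹ * (x * c) * a = (a⁻¹ * x * a) * (a⁻¹ * (c * a)) := by group
    rw [this, hax, ← hac]
    have hxc' : x⁻¹ * c = c * x⁻¹ := by
      calc x⁻¹ * c = x⁻¹ * (c * x) * x⁻¹ := by group
        _ = x⁻¹ * (x * c) * x⁻¹ := by rw [hxc]
        _ = c * x⁻¹ := by group
    calc x⁻¹ * (a⁻¹ * (a * c)) = x⁻¹ * c := by group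
      _ = c * x⁻¹ := hxc'
  have l3 : d⁻¹ * c⁻¹ * d = c := by
    have := l1.symm.trans l2
    exact mul_right_cancel this
  have l4 : d⁻¹ * c * d = c⁻¹ := by
    have : d⁻¹ * c * d = (d⁻¹ * c⁻¹ * d)⁻¹ := by group
    rw [this, l3]
  have hc1 : c = 1 := eq_one_of_conj_inv c d (hZ c hcZ) (hZ d hdZ) l4
  rw [e1, hc1, mul_one]

end Cfsg.Agent.H85.Jc
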