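import Mathlib

/-!
# S2953 (team project, kill of the residual configuration): the abstract core of case (a), "the count"

`r1_in`: in a finite group, let `A` be an elementary abelian 2-subgroup of largest order of a subgroup `T`,
and `V₁`, `V₂ = a V₁ a⁻¹` (`a ∈ A`) two commuting four-groups of `T` with trivial intersection such that
`N_A(V₁)` has index at most 2 in `A`.  This is impossible: `C_A(V₁) V₁ V₂` is elementary abelian of larger
order.
-/

set_option autoImplicit false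

namespace Cfsg.Agent.H85.R1

universe u

variable {G : Type u} [Group G]

theorem mul3 {c x y c' x' y' : G} (e1 : y * c' = c' * y) (e2 : x * c' = c' * x)
    (e3 : y * x' = x' * y) :
    c * x * y * (c' * x' * y') = c * c' * (x * x') * (y * y') := by
  calc c * x * y * (c' * x' * y') = c * x * (y * c') * x' * y' := by group
    _ = c * x * (c' * y) * x' * y' := by rw [e1]
    _ = c * (x * c') * (y * x') * y' := by group
    _ = c * (c' * x) * (x' * y) * y' := by rw [e2, e3]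
    _ = c * c' * (x * x') * (y * y') := by group

theorem comm_of_sq {x y : G} (hx : x * x = 1) (hy : y * y = 1) (hxy : x * y * (x * y) = 1) :
    x * y = y * x := by
  have h1 : (x * y)⁻¹ = x * y := inv_eq_of_mul_eq_one_left hxy
  have hx' : x⁻¹ = x := inv_eq_of_mul_eq_one_left hx
  have hy' : y⁻¹ = y := inv_eq_of_mul_eq_one_left hy
  calc x * y = (x * y)⁻¹ := h1.symm
    _ = y⁻¹ * x⁻¹ := mul_inv_rev x y
    _ = y * x := by rw [hx', hy']

theorem conj_comm {a c x : G} (hca : c * a = a * c) (hxc : x * c = c * x) :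
    a * x * a⁻¹ * c = c * (a * x * a⁻¹) := by
  have h1 : Commute c a := hca
  have h2 : Commute c x := hxc.symm
  exact (((h1.mul_right h2).mul_right h1.inv_right).eq).symm

/-- The product of three pairwise commuting subgroups of exponent 2. -/
def prod3 (C V₁ V₂ : Subgroup G) (hC2 : ∀ c ∈ C, c * c = 1) (h12 : ∀ x ∈ V₁, x * x = 1)
    (h22 : ∀ y ∈ V₂, y * y = 1) (hc1 : ∀ c ∈ C, ∀ x ∈ V₁, x * c = c * x)
    (hc2 : ∀ c ∈ C, ∀ y ∈ V₂, y * c = c * y) (h12c : ∀ x ∈ V₁, ∀ y ∈ V₂, y * x = x * y) :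
    Subgroup G where
  carrier := {g | ∃ c ∈ C, ∃ x ∈ V₁, ∃ y ∈ V₂, g = c * x * y}
  one_mem' := ⟨1, C.one_mem, 1, V₁.one_mem, 1, V₂.one_mem, by simp⟩
  mul_mem' := by
    rintro _ _ ⟨c, hc, x, hx, y, hy, rfl⟩ ⟨c', hc', x', hx', y', hy', rfl⟩
    exact ⟨c * c', C.mul_mem hc hc', x * x', V₁.mul_mem hx hx', y * y', V₂.mul_mem hy hy',
      mul3 (hc2 c' hc' y hy) (hc1 c' hc' x hx) (h12c x' hx' y hy)⟩
  inv_mem' := by
    rintro _ ⟨c, hc, x, hx, y, hy, rfl⟩
    refine ⟨c, hc, x, hx, y, hy, ?_⟩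
    have h : c * x * y * (c * x * y) = 1 := by
      rw [mul3 (hc2 c hc y hy) (hc1 c hc x hx) (h12c x hx y hy), hC2 c hc, h12 x hx, h22 y hy]
      simp
    exact inv_eq_of_mul_eq_one_left h

theorem four_cover : ∀ a b c d y : Fin 4, a ≠ b → a ≠ c → a ≠ d → b ≠ c → b ≠ d → c ≠ d →
    y = a ∨ y = b ∨ y = c ∨ y = d := by decide

/-- Four distinct elements of a subgroup of order 4 exhaust it. -/
theorem four_elts (V : Subgroup G) (hV : Nat.card ↥V = 4) {e p q r : G} (he : e ∈ V) (hp : p ∈ V)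
    (hq : q ∈ V) (hr : r ∈ V) (h1 : e ≠ p) (h2 : e ≠ q) (h3 : e ≠ r) (h4 : p ≠ q) (h5 : p ≠ r)
    (h6 : q ≠ r) : ∀ x ∈ V, x = e ∨ x = p ∨ x = q ∨ x = r := by
  intro x hx
  haveI : Finite ↥V := Nat.finite_of_card_ne_zero (by rw [hV]; norm_num)
  have φ : ↥V ≃ Fin 4 := Finite.equivFinOfCardEq hV
  have hne : ∀ {s t : G} (hs : s ∈ V) (ht : t ∈ V), s ≠ t → φ ⟨s, hs⟩ ≠ φ ⟨t, ht⟩ := by
    intro s t hs ht hst h
    exact hst (congrArg Subtype.val (φ.injective h))
  have heq : ∀ {s t : G} (hs : s ∈ V) (ht : t ∈ V), φ ⟨s, hs⟩ = φ ⟨t, ht⟩ → s = t := by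
    intro s t hs ht h
    exact congrArg Subtype.val (φ.injective h)
  rcases four_cover (φ ⟨e, he⟩) (φ ⟨p, hp⟩) (φ ⟨q, hq⟩) (φ ⟨r, hr⟩) (φ ⟨x, hx⟩)
      (hne he hp h1) (hne he hq h2) (hne he hr h3) (hne hp hq h4) (hne hp hr h5) (hne hq hr h6)
    with h | h | h | h
  · exact Or.inl (heq hx he h)
  · exact Or.inr (Or.inl (heq hx hp h))
  · exact Or.inr (Or.inr (Or.inl (heq hx hq h)))
  · exact Or.inr (Or.inr (Or.inr (heq hx hr h)))

/-- The abstract core of case (a) (the count). -/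
theorem r1_in [Finite G] (T A V₁ V₂ : Subgroup G) (a : G)
    (hAT : A ≤ T) (hA2 : ∀ x ∈ A, x * x = 1) (hAc : ∀ x ∈ A, ∀ y ∈ A, x * y = y * x)
    (hAmax : ∀ X : Subgroup G, X ≤ T → (∀ x ∈ X, x * x = 1) →
      (∀ x ∈ X, ∀ y ∈ X, x * y = y * x) → Nat.card ↥X ≤ Nat.card ↥A)
    (hV₁T : V₁ ≤ T) (hV₂T : V₂ ≤ T) (hV₁4 : Nat.card ↥V₁ = 4) (hV₁2 : ∀ x ∈ V₁, x * x = 1)
    (hV₁₂ : ∀ x ∈ V₁, ∀ y ∈ V₂, x * y = y * x) (hdisj : V₁ ⊓ V₂ = ⊥) (haA : a ∈ A)
    (haV : ∀ x : G, x ∈ V₁ ↔ a * x * a⁻¹ ∈ V₂)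
    (hA0 : ∀ b ∈ A, (∀ x ∈ V₁, b * x * b⁻¹ ∈ V₁) ∨
      (∀ x ∈ V₁, (b * a) * x * (b * a)⁻¹ ∈ V₁)) : False := by
  classical
  have ha2 : a * a = 1 := hA2 a haA
  have hainv : a⁻¹ = a := inv_eq_of_mul_eq_one_left ha2
  have hinvV : ∀ x ∈ V₁, x⁻¹ = x := fun x hx => inv_eq_of_mul_eq_one_left (hV₁2 x hx)
  have hV₂' : ∀ y ∈ V₂, a * y * a⁻¹ ∈ V₁ := by
    intro y hy
    refine (haV _).mpr ?_
    have : a * (a * y * a⁻¹) * a⁻¹ = y := by
      rw [hainv]
      calc a * (a * y * a) * a = (a * a) * y * (a * a) := by group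
        _ = y := by rw [ha2]; simp
    rw [this]; exact hy
  have hV₂2 : ∀ y ∈ V₂, y * y = 1 := by
    intro y hy
    have h := hV₁2 _ (hV₂' y hy)
    have h2 : a * (y * y) * a⁻¹ = 1 := by rw [← h]; group
    exact conj_eq_one_iff.mp h2
  have hV₁c : ∀ x ∈ V₁, ∀ x' ∈ V₁, x * x' = x' * x := fun x hx x' hx' =>
    comm_of_sq (hV₁2 x hx) (hV₁2 x' hx') (hV₁2 _ (V₁.mul_mem hx hx'))
  have hbot : ∀ g, g ∈ V₁ → g ∈ V₂ → g = 1 := by
    intro g h1 h2
    have : g ∈ V₁ ⊓ V₂ := Subgroup.mem_inf.mpr ⟨h1, h2⟩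
    rw [hdisj] at this
    exact Subgroup.mem_bot.mp this
  have hAV₁ : ∀ g ∈ A, g ∈ V₁ → g = 1 := by
    intro g hgA hgV
    have h1 : a * g * a⁻¹ ∈ V₂ := (haV g).mp hgV
    have h2 : a * g * a⁻¹ = g := by rw [hAc a haA g hgA]; group
    rw [h2] at h1
    exact hbot g hgV h1
  -- the centralizer of `V₁` in `A`
  obtain ⟨C, hCdef⟩ : ∃ C : Subgroup G, C = A ⊓ Subgroup.centralizer (V₁ : Set G) := ⟨_, rfl⟩
  have hCA : ∀ c ∈ C, c ∈ A := fun c hc => by rw [hCdef] at hc; exact (Subgroup.mem_inf.mp hc).1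
  have hC1 : ∀ c ∈ C, ∀ x ∈ V₁, x * c = c * x := fun c hc x hx => by
    rw [hCdef] at hc
    exact (Subgroup.mem_centralizer_iff.mp (Subgroup.mem_inf.mp hc).2) x hx
  have hmemC : ∀ c ∈ A, (∀ x ∈ V₁, x * c = c * x) → c ∈ C := fun c hc h => by
    rw [hCdef]; exact Subgroup.mem_inf.mpr ⟨hc, Subgroup.mem_centralizer_iff.mpr h⟩
  have hC2 : ∀ c ∈ C, c * c = 1 := fun c hc => hA2 c (hCA c hc)
  have hCV₂ : ∀ c ∈ C, ∀ y ∈ V₂, y * c = c * y := by
    intro c hc y hy
    have hx := hV₂' y hy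
    have hy' : y = a * (a * y * a⁻¹) * a⁻¹ := by
      rw [hainv]
      calc y = (a * a) * y * (a * a) := by rw [ha2]; simp
        _ = a * (a * y * a) * a := by group
    rw [hy']
    exact conj_comm (hAc c (hCA c hc) a haA) (hC1 c hc _ hx)
  have h12c : ∀ x ∈ V₁, ∀ y ∈ V₂, y * x = x * y := fun x hx y hy => (hV₁₂ x hx y hy).symm
  -- the elementary abelian subgroup `X = C V₁ V₂`
  obtain ⟨X, hXdef⟩ : ∃ X : Subgroup G, X = prod3 C V₁ V₂ hC2 hV₁2 hV₂2 hC1 hCV₂ h12c := ⟨_, rfl⟩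
  have hXmem : ∀ g, g ∈ X ↔ ∃ c ∈ C, ∃ x ∈ V₁, ∃ y ∈ V₂, g = c * x * y := fun g => by
    rw [hXdef]; exact Iff.rfl
  have hXT : X ≤ T := by
    intro g hg
    obtain ⟨c, hc, x, hx, y, hy, rfl⟩ := (hXmem g).mp hg
    exact T.mul_mem (T.mul_mem (hAT (hCA c hc)) (hV₁T hx)) (hV₂T hy)
  have hX2 : ∀ g ∈ X, g * g = 1 := by
    intro g hg
    obtain ⟨c, hc, x, hx, y, hy, rfl⟩ := (hXmem g).mp hg
    rw [mul3 (hCV₂ c hc y hy) (hC1 c hc x hx) (h12c x hx y hy), hC2 c hc, hV₁2 x hx, hV₂2 y hy]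
    simp
  have hXc : ∀ g ∈ X, ∀ g' ∈ X, g * g' = g' * g := fun g hg g' hg' =>
    comm_of_sq (hX2 g hg) (hX2 g' hg') (hX2 _ (X.mul_mem hg hg'))
  have hAX : Nat.card ↥X ≤ Nat.card ↥A := hAmax X hXT hX2 hXc
  have hCpos : 0 < Nat.card ↥C := Nat.card_pos
  have hcardA : Nat.card ↥A = (A : Set G).ncard := _root_.Nat.card_coe_set_eq (A : Set G)
  have hcardC : Nat.card ↥C = (C : Set G).ncard := _root_.Nat.card_coe_set_eq (C : Set G)
  -- cancellation in `C V₁`
  have inj0 : ∀ c ∈ C, ∀ c' ∈ C, ∀ x ∈ V₁, ∀ x' ∈ V₁, c * x = c' * x' → c = c' ∧ x = x' := by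
    intro c hc c' hc' x hx x' hx' h
    have h1 : c'⁻¹ * c = x' * x⁻¹ := by
      calc c'⁻¹ * c = c'⁻¹ * (c * x) * x⁻¹ := by group
        _ = c'⁻¹ * (c' * x') * x⁻¹ := by rw [h]
        _ = x' * x⁻¹ := by group
    have h2 : c'⁻¹ * c = 1 := hAV₁ _ (hCA _ (C.mul_mem (C.inv_mem hc') hc))
      (by rw [h1]; exact V₁.mul_mem hx' (V₁.inv_mem hx))
    have h3 : x' * x⁻¹ = 1 := by rw [← h1]; exact h2
    exact ⟨(inv_mul_eq_one.mp h2).symm, (mul_inv_eq_one.mp h3).symm⟩
  have sq0 : ∀ c ∈ C, ∀ x ∈ V₁, c * x * (c * x) = 1 := by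
    intro c hc x hx
    have := hX2 (c * x * 1) ((hXmem _).mpr ⟨c, hc, x, hx, 1, V₂.one_mem, rfl⟩)
    simpa using this
  have mul0 : ∀ c ∈ C, ∀ c' ∈ C, ∀ x ∈ V₁, ∀ x' ∈ V₁, c * c' * (x * x') = c * x * (c' * x') := by
    intro c _ c' hc' x hx x' _
    have := mul3 (c := c) (x := x) (y := 1) (c' := c') (x' := x') (y' := 1) (by simp)
      (hC1 c' hc' x hx) (by simp)
    simpa using this.symm
  by_cases hcase : ∀ b ∈ A, (∀ x ∈ V₁, b * x * b⁻¹ ∈ V₁) → ∀ x ∈ V₁, x * b = b * x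
  · -- case (i): `N_A(V₁)` centralizes `V₁`
    have hsub : (A : Set G) ⊆ (C : Set G) ∪ (fun c => c * a) '' (C : Set G) := by
      intro b hb
      rcases hA0 b hb with hP | hP
      · exact Or.inl (hmemC b hb (hcase b hb hP))
      · have hba : b * a ∈ A := A.mul_mem hb haA
        refine Or.inr ⟨b * a, hmemC _ hba (hcase _ hba hP), ?_⟩
        show b * a * a = b
        rw [mul_assoc, ha2, mul_one]
    have hA_le : Nat.card ↥A ≤ Nat.card ↥C + Nat.card ↥C := by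
      rw [hcardA, hcardC]
      calc (A : Set G).ncard ≤ ((C : Set G) ∪ (fun c => c * a) '' (C : Set G)).ncard :=
            Set.ncard_le_ncard hsub
        _ ≤ (C : Set G).ncard + ((fun c => c * a) '' (C : Set G)).ncard := Set.ncard_union_le _ _
        _ ≤ (C : Set G).ncard + (C : Set G).ncard := Nat.add_le_add_left (Set.ncard_image_le) _
    let f : ↥C × ↥V₁ → ↥X := fun t =>
      ⟨t.1 * t.2 * 1, (hXmem _).mpr ⟨t.1, t.1.2, t.2, t.2.2, 1, V₂.one_mem, rfl⟩⟩
    have hf : Function.Injective f := by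
      rintro ⟨c, x⟩ ⟨c', x'⟩ h
      have h' : (c : G) * x * 1 = c' * x' * 1 := congrArg Subtype.val h
      rw [mul_one, mul_one] at h'
      obtain ⟨e1, e2⟩ := inj0 c c.2 c' c'.2 x x.2 x' x'.2 h'
      exact Prod.ext (Subtype.ext e1) (Subtype.ext e2)
    have hX_ge : Nat.card ↥C * 4 ≤ Nat.card ↥X := by
      have := Nat.card_le_card_of_injective f hf
      rwa [Nat.card_prod, hV₁4] at this
    omega
  · -- case (ii): some `b₀ ∈ N_A(V₁)` does not centralize `V₁`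
    push_neg at hcase
    obtain ⟨b₀, hb₀A, hP₀, q, hq, hqne⟩ := hcase
    have hb₀2 : b₀ * b₀ = 1 := hA2 b₀ hb₀A
    have hb₀inv : b₀⁻¹ = b₀ := inv_eq_of_mul_eq_one_left hb₀2
    obtain ⟨q', hq'def⟩ : ∃ q' : G, q' = b₀ * q * b₀⁻¹ := ⟨_, rfl⟩
    have hq'V : q' ∈ V₁ := by rw [hq'def]; exact hP₀ q hq
    have hqq' : q ≠ q' := by
      intro h
      apply hqne
      calc q * b₀ = (b₀ * q * b₀⁻¹) * b₀ := by rw [← hq'def, ← h]
        _ = b₀ * q := by group
    have hb₀q' : b₀ * q' * b₀⁻¹ = q := by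
      rw [hq'def, hb₀inv]
      calc b₀ * (b₀ * q * b₀) * b₀ = (b₀ * b₀) * q * (b₀ * b₀) := by group
        _ = q := by rw [hb₀2]; simp
    have hq1 : q ≠ 1 := by
      rintro rfl
      exact hqne (by simp)
    have hq'1 : q' ≠ 1 := by
      intro h
      rw [h] at hb₀q'
      exact hq1 (by rw [← hb₀q']; simp)
    obtain ⟨p, hpdef⟩ : ∃ p : G, p = q * q' := ⟨_, rfl⟩
    have hpV : p ∈ V₁ := by rw [hpdef]; exact V₁.mul_mem hq hq'V
    have hp1 : p ≠ 1 := by
      intro h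
      rw [hpdef] at h
      have h' : q' = q⁻¹ := eq_inv_of_mul_eq_one_right h
      rw [hinvV q hq] at h'
      exact hqq' h'.symm
    have hpq : p ≠ q := by
      intro h
      rw [hpdef] at h
      have h' : q * q' = q * 1 := by rw [h, mul_one]
      exact hq'1 (mul_left_cancel h')
    have hpq' : p ≠ q' := by
      intro h
      rw [hpdef] at h
      have h' : q * q' = 1 * q' := by rw [h, one_mul]
      exact hq1 (mul_right_cancel h')
    have hF := four_elts V₁ hV₁4 V₁.one_mem hpV hq hq'V (Ne.symm hp1) (Ne.symm hq1) (Ne.symm hq'1)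
      hpq hpq' hqq'
    have hb₀p : b₀ * p * b₀⁻¹ = p := by
      rw [hpdef]
      calc b₀ * (q * q') * b₀⁻¹ = (b₀ * q * b₀⁻¹) * (b₀ * q' * b₀⁻¹) := by group
        _ = q' * q := by rw [← hq'def, hb₀q']
        _ = q * q' := hV₁c q' hq'V q hq
    have hpq_q' : p * q = q' := by
      rw [hpdef]
      calc q * q' * q = q' * q * q := by rw [hV₁c q hq q' hq'V]
        _ = q' * (q * q) := by group
        _ = q' := by rw [hV₁2 q hq, mul_one]
    have hpq'_q : p * q' = q := by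
      rw [hpdef]
      calc q * q' * q' = q * (q' * q') := by group
        _ = q := by rw [hV₁2 q' hq'V, mul_one]
    -- the action of `N_A(V₁)` on `V₁` has order 2
    have idx : ∀ b ∈ A, (∀ x ∈ V₁, b * x * b⁻¹ ∈ V₁) →
        (∀ x ∈ V₁, x * b = b * x) ∨ (∀ x ∈ V₁, x * (b * b₀) = (b * b₀) * x) := by
      intro b hb hPb
      have hbb₀ : b * b₀ = b₀ * b := hAc b hb b₀ hb₀A
      have hσp : b * p * b⁻¹ = p := by
        have hfix : b₀ * (b * p * b⁻¹) * b₀⁻¹ = b * p * b⁻¹ := by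
          calc b₀ * (b * p * b⁻¹) * b₀⁻¹ = (b₀ * b) * p * (b₀ * b)⁻¹ := by group
            _ = (b * b₀) * p * (b * b₀)⁻¹ := by rw [hbb₀]
            _ = b * (b₀ * p * b₀⁻¹) * b⁻¹ := by group
            _ = b * p * b⁻¹ := by rw [hb₀p]
        rcases hF _ (hPb p hpV) with h | h | h | h
        · exact absurd (conj_eq_one_iff.mp h) hp1
        · exact h
        · rw [h, ← hq'def] at hfix
          exact absurd hfix.symm hqq'
        · rw [h, hb₀q'] at hfix
          exact absurd hfix hqq'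
      rcases hF _ (hPb q hq) with h | h | h | h
      · exact absurd (conj_eq_one_iff.mp h) hq1
      · have h1 : b * q * b⁻¹ = b * p * b⁻¹ := by rw [h, hσp]
        have h2 : q = p := by simpa using h1
        exact absurd h2.symm hpq
      · left
        have hσq' : b * q' * b⁻¹ = q' := by
          calc b * q' * b⁻¹ = b * (p * q) * b⁻¹ := by rw [hpq_q']
            _ = (b * p * b⁻¹) * (b * q * b⁻¹) := by group
            _ = p * q := by rw [hσp, h]
            _ = q' := hpq_q'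
        intro x hx
        have hσx : b * x * b⁻¹ = x := by
          rcases hF x hx with h1 | h1 | h1 | h1
          · rw [h1]; simp
          · rw [h1]; exact hσp
          · rw [h1]; exact h
          · rw [h1]; exact hσq'
        calc x * b = (b * x * b⁻¹) * b := by rw [hσx]
          _ = b * x := by group
      · right
        have hσq' : b * q' * b⁻¹ = q := by
          calc b * q' * b⁻¹ = b * (p * q) * b⁻¹ := by rw [hpq_q']
            _ = (b * p * b⁻¹) * (b * q * b⁻¹) := by group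
            _ = p * q' := by rw [hσp, h]
            _ = q := hpq'_q
        intro x hx
        have hσx : (b * b₀) * x * (b * b₀)⁻¹ = x := by
          have e : ∀ t : G, (b * b₀) * t * (b * b₀)⁻¹ = b * (b₀ * t * b₀⁻¹) * b⁻¹ := by
            intro t; group
          rw [e]
          rcases hF x hx with h1 | h1 | h1 | h1
          · rw [h1]; simp
          · rw [h1, hb₀p, hσp]
          · rw [h1, ← hq'def, hσq']
          · rw [h1, hb₀q', h]
        calc x * (b * b₀) = ((b * b₀) * x * (b * b₀)⁻¹) * (b * b₀) := by rw [hσx]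
          _ = (b * b₀) * x := by group
    -- `y₂ = a q a⁻¹` is not in `C V₁`
    have hy₂ : a * q * a⁻¹ ∈ V₂ := (haV q).mp hq
    have hy₂not : ∀ c ∈ C, ∀ x ∈ V₁, c * x ≠ a * q * a⁻¹ := by
      intro c hc x hx h
      have hcb : b₀ * c * b₀⁻¹ = c := by rw [hAc b₀ hb₀A c (hCA c hc)]; group
      have hab : a * b₀ = b₀ * a := hAc a haA b₀ hb₀A
      have h1 : c * (b₀ * x * b₀⁻¹) = a * q' * a⁻¹ := by
        calc c * (b₀ * x * b₀⁻¹) = (b₀ * c * b₀⁻¹) * (b₀ * x * b₀⁻¹) := by rw [hcb]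
          _ = b₀ * (c * x) * b₀⁻¹ := by group
          _ = b₀ * (a * q * a⁻¹) * b₀⁻¹ := by rw [h]
          _ = (b₀ * a) * q * (b₀ * a)⁻¹ := by group
          _ = (a * b₀) * q * (a * b₀)⁻¹ := by rw [hab]
          _ = a * (b₀ * q * b₀⁻¹) * a⁻¹ := by group
          _ = a * q' * a⁻¹ := by rw [← hq'def]
      have hx₁ : b₀ * x * b₀⁻¹ ∈ V₁ := hP₀ x hx
      have h2 : x⁻¹ * (b₀ * x * b₀⁻¹) = (a * q * a⁻¹)⁻¹ * (a * q' * a⁻¹) := by
        rw [← h, ← h1]; group
      have h3 : x⁻¹ * (b₀ * x * b₀⁻¹) ∈ V₁ := V₁.mul_mem (V₁.inv_mem hx) hx₁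
      have h4 : x⁻¹ * (b₀ * x * b₀⁻¹) ∈ V₂ := by
        rw [h2]; exact V₂.mul_mem (V₂.inv_mem hy₂) ((haV q').mp hq'V)
      have h5 := hbot _ h3 h4
      rw [h5] at h2
      have h6 : a * q * a⁻¹ = a * q' * a⁻¹ := inv_mul_eq_one.mp h2.symm
      have h7 : q = q' := by simpa using h6
      exact hqq' h7
    -- `|A| ≤ 4 |C|`
    have hsub : (A : Set G) ⊆ (C : Set G) ∪ (fun c => c * b₀) '' (C : Set G) ∪
        (fun c => c * a) '' (C : Set G) ∪ (fun c => c * (b₀ * a)) '' (C : Set G) := by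
      intro b hb
      rcases hA0 b hb with hP | hP
      · rcases idx b hb hP with hc | hc
        · exact Or.inl (Or.inl (Or.inl (hmemC b hb hc)))
        · refine Or.inl (Or.inl (Or.inr ⟨b * b₀, hmemC _ (A.mul_mem hb hb₀A) hc, ?_⟩))
          show b * b₀ * b₀ = b
          rw [mul_assoc, hb₀2, mul_one]
      · have hba : b * a ∈ A := A.mul_mem hb haA
        rcases idx (b * a) hba hP with hc | hc
        · refine Or.inl (Or.inr ⟨b * a, hmemC _ hba hc, ?_⟩)
          show b * a * a = b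
          rw [mul_assoc, ha2, mul_one]
        · refine Or.inr ⟨b * a * b₀, hmemC _ (A.mul_mem hba hb₀A) hc, ?_⟩
          show b * a * b₀ * (b₀ * a) = b
          calc b * a * b₀ * (b₀ * a) = b * a * (b₀ * b₀) * a := by group
            _ = b * (a * a) := by rw [hb₀2]; group
            _ = b := by rw [ha2, mul_one]
    have hA_le : Nat.card ↥A ≤ 4 * Nat.card ↥C := by
      rw [hcardA, hcardC]
      have i1 : ((fun c => c * b₀) '' (C : Set G)).ncard ≤ (C : Set G).ncard := Set.ncard_image_le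
      have i2 : ((fun c => c * a) '' (C : Set G)).ncard ≤ (C : Set G).ncard := Set.ncard_image_le
      have i3 : ((fun c => c * (b₀ * a)) '' (C : Set G)).ncard ≤ (C : Set G).ncard :=
        Set.ncard_image_le
      have u1 := Set.ncard_union_le (C : Set G) ((fun c => c * b₀) '' (C : Set G))
      have u2 := Set.ncard_union_le ((C : Set G) ∪ (fun c => c * b₀) '' (C : Set G))
        ((fun c => c * a) '' (C : Set G))
      have u3 := Set.ncard_union_le ((C : Set G) ∪ (fun c => c * b₀) '' (C : Set G) ∪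
        (fun c => c * a) '' (C : Set G)) ((fun c => c * (b₀ * a)) '' (C : Set G))
      have u0 := Set.ncard_le_ncard hsub
      omega
    -- `8 |C| ≤ |X|`
    let f : ↥C × ↥V₁ × Bool → ↥X := fun t =>
      ⟨t.1 * t.2.1 * (if t.2.2 then a * q * a⁻¹ else 1), (hXmem _).mpr ⟨t.1, t.1.2, t.2.1, t.2.1.2,
        _, (by split_ifs; exacts [hy₂, V₂.one_mem]), rfl⟩⟩
    have hf : Function.Injective f := by
      rintro ⟨c, x, ε⟩ ⟨c', x', ε'⟩ h
      have h' : (c : G) * x * (if ε then a * q * a⁻¹ else 1) =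
          c' * x' * (if ε' then a * q * a⁻¹ else 1) := congrArg Subtype.val h
      cases ε <;> cases ε'
      · simp only [Bool.false_eq_true, if_false, mul_one] at h'
        obtain ⟨e1, e2⟩ := inj0 c c.2 c' c'.2 x x.2 x' x'.2 h'
        exact Prod.ext (Subtype.ext e1) (Prod.ext (Subtype.ext e2) rfl)
      · exfalso
        simp only [Bool.false_eq_true, if_false, if_true, mul_one] at h'
        -- h' : c * x = c' * x' * y₂
        apply hy₂not (c' * c) (C.mul_mem c'.2 c.2) (x' * x) (V₁.mul_mem x'.2 x.2)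
        calc (c' : G) * c * (x' * x) = c' * x' * (c * x) := mul0 c' c'.2 c c.2 x' x'.2 x x.2
          _ = c' * x' * (c' * x' * (a * q * a⁻¹)) := by rw [h']
          _ = c' * x' * (c' * x') * (a * q * a⁻¹) := by group
          _ = a * q * a⁻¹ := by rw [sq0 c' c'.2 x' x'.2, one_mul]
      · exfalso
        simp only [Bool.false_eq_true, if_false, if_true, mul_one] at h'
        -- h' : c * x * y₂ = c' * x'
        apply hy₂not (c * c') (C.mul_mem c.2 c'.2) (x * x') (V₁.mul_mem x.2 x'.2)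
        calc (c : G) * c' * (x * x') = c * x * (c' * x') := mul0 c c.2 c' c'.2 x x.2 x' x'.2
          _ = c * x * (c * x * (a * q * a⁻¹)) := by rw [h']
          _ = c * x * (c * x) * (a * q * a⁻¹) := by group
          _ = a * q * a⁻¹ := by rw [sq0 c c.2 x x.2, one_mul]
      · simp only [if_true] at h'
        have h'' : (c : G) * x = c' * x' := mul_right_cancel h'
        obtain ⟨e1, e2⟩ := inj0 c c.2 c' c'.2 x x.2 x' x'.2 h''
        exact Prod.ext (Subtype.ext e1) (Prod.ext (Subtype.ext e2) rfl)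
    have hX_ge : Nat.card ↥C * (4 * 2) ≤ Nat.card ↥X := by
      have := Nat.card_le_card_of_injective f hf
      have hb : Nat.card Bool = 2 := Nat.card_eq_fintype_card.trans Fintype.card_bool
      rw [Nat.card_prod, Nat.card_prod, hV₁4, hb] at this
      exact this
    omega

end Cfsg.Agent.H85.R1
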