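import Mathlib
import Cfsg.Agent.H23.StbDecDefs2
import Cfsg.Agent.H87.StbDAlg
import Cfsg.Agent.H27.StbDRootChar
import Cfsg.Agent.H70.StbField

/-!
# SD-DECOMP, corrected (helper85, for helper23's S2156 project)

`StDecomp2` is `Cfsg.Agent.H23.StbD.StDecomp` VERBATIM except that the all-short alternative carries
`bL = bS` (as in helper87's `StAlg2`; the original `StAlg` is false in the all-short case).
`decomp2` proves it from `StAlg2`, `StRootChar`, `StField`; `decomp2Closed` is hypothesis-free.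
-/

set_option autoImplicit false

namespace Cfsg.Agent.H85.StbD

open Cfsg.Lie Cfsg.Agent.H23 Cfsg.Agent.H23.Stb Cfsg.Agent.H23.StbD

universe u

/-- **SD-DECOMP**, corrected: the all-short alternative carries `bL = bS`. -/
def StDecomp2 : Prop :=
  ∀ (D : ChevalleyDatum) (F : Type u) [Field F] [Finite F] (z η : ℕ → ℕ → ℤ) (rT w0 : List ℕ)
    (hC : PackS D F z η rT w0) (c bL bS : ℕ),
    (∀ i < D.rank, ∀ j < D.rank, D.cartan i (D.simple j) = z (D.simple i) (D.simple j)) →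
    (c = 2 ∨ c = 3) →
    (∀ i < D.rank, ∀ j < D.rank, i ≠ j → z (D.simple j) (D.simple i) ≠ 0 →
      z (D.simple j) (D.simple i) =
        if D.isLong (D.simple i) && !D.isLong (D.simple j) then -(c : ℤ) else -1) →
    bL < D.rank → bS < D.rank →
    (∀ P : ℕ → Prop, P bS → P bL →
      (∀ i < D.rank, ∀ j < D.rank, i ≠ j → z (D.simple j) (D.simple i) ≠ 0 →
        D.isLong (D.simple i) = D.isLong (D.simple j) → P i → P j) → ∀ i < D.rank, P i) →
    ((D.isLong (D.simple bL) = true ∧ D.isLong (D.simple bS) = false ∧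
        z (D.simple bS) (D.simple bL) ≠ 0 ∧ z (D.simple bL) (D.simple bS) ≠ 0) ∨
      ((∀ i < D.rank, D.isLong (D.simple i) = false) ∧ bL = bS)) →
    (∃ i < D.rank, ∃ j < D.rank, i ≠ j ∧ z (D.simple j) (D.simple i) = -1) →
    (∀ π : ℕ → ℕ, (∀ i < D.rank, π i < D.rank) → (∀ i < D.rank, ∀ j < D.rank, π i = π j → i = j) →
      (∀ i < D.rank, ∀ j < D.rank, i ≠ j →
        (z (D.simple (π j)) (D.simple (π i)) ≠ 0 ↔ z (D.simple j) (D.simple i) ≠ 0)) →
      ((∀ i < D.rank, D.isLong (D.simple (π i)) = D.isLong (D.simple i)) ∨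
        (∀ i < D.rank, D.isLong (D.simple (π i)) = !D.isLong (D.simple i)))) →
    (∀ r < D.nroots, ∀ s < D.nroots, ∀ k, D.chainRoot r s 1 = some k →
      k < D.nroots ∧ s ≠ r ∧ s ≠ D.neg r) →
    ∀ θ : ↥(D.group F) ≃* ↥(D.group F),
    (∃ (x : ↥(D.group F)) (δ : ↥(D.group F) ≃* ↥(D.group F)) (π : ℕ → ℕ) (φ : ℕ → F ≃+ F),
      (∃ k ∈ torusGroup D F, ∀ y : ↥(D.group F),
        ((δ y : ↥(D.group F)) : GL D.Idx F) = k * (y : GL D.Idx F) * k⁻¹) ∧
      (∀ i < D.rank, π i < D.rank) ∧ (∀ i < D.rank, ∀ j < D.rank, π i = π j → i = j) ∧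
      (∀ i < D.rank, ∀ j < D.rank, i ≠ j →
        (z (D.simple (π j)) (D.simple (π i)) ≠ 0 ↔ z (D.simple j) (D.simple i) ≠ 0)) ∧
      NormalForm hC.hP.sem ((conjL x θ).trans δ) π φ) →
    ∃ (x : ↥(D.group F)) (d g f : ↥(D.group F) ≃* ↥(D.group F)),
      D.IsDiagonalAut d ∧ D.IsGraphAut g ∧ D.IsFieldAut f ∧ ∀ y : ↥(D.group F), θ y = x * d (g (f y)) * x⁻¹

/-- a group element whose matrix is `x_r(t)` is `xG r t` -/
theorem eq_xG_of_val' {D : ChevalleyDatum} {F : Type u} [Field F] {z : ℕ → ℕ → ℤ} (hS : Sem D F z)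
    (g : ↥(D.group F)) (r : ℕ) (t : F)
    (h : ((g : GL D.Idx F) : Matrix D.Idx D.Idx F) = D.x F r t) : g = xG hS r t := by
  apply Subtype.ext
  apply Units.ext
  exact h

/-- SD-DECOMP, corrected -/
theorem decomp2 (h1 : Cfsg.Agent.H87.StbD.StAlg2.{u}) (h2 : StRootChar.{u})
    (h3 : Cfsg.Agent.H23.Stb.StField.{u}) : StDecomp2.{u} := by
  intro D F _ _ z η rT w0 hC c bL bS hcz hc23 hA hbL hbS hconn hcase hex hπlen hchain θ hnf
  obtain ⟨x, δ, π, φ, ⟨k, hk, hδ⟩, hπ, hinj, hadj, hNF⟩ := hnf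
  obtain ⟨hpos, hneg, hφ1, hφinv, hR⟩ := hNF
  -- the algebra piece
  obtain ⟨σ, hσ⟩ := h1 F D.rank (fun j i => z (D.simple j) (D.simple i))
    (fun i => D.isLong (D.simple i)) c bL bS π φ hc23 hA hbL hbS hconn hcase hex hπ hinj hadj
    (hπlen π hπ hinj hadj) hφ1 hφinv hR
  have he : ∀ i < D.rank, ∀ s : F, φ i s = σ s ^ D.graphExp (ringChar F) i (π i) :=
    fun i hi s => hσ i hi s
  -- the field automorphism
  obtain ⟨Φ, hΦ⟩ := h3 D F z hC.hP.sem σ
  have hΦx : ∀ (r : ℕ) (t : F), Φ (xG hC.hP.sem r t) = xG hC.hP.sem r (σ t) := by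
    intro r t
    apply Subtype.ext
    rw [hΦ]
    exact glMap_xU hC.hP.sem hC.hP.sem (σ : F →+* F) r t
  have hΦs : ∀ (r : ℕ) (t : F), Φ.symm (xG hC.hP.sem r t) = xG hC.hP.sem r (σ.symm t) := by
    intro r t
    rw [MulEquiv.symm_apply_eq, hΦx, RingEquiv.apply_symm_apply]
  refine ⟨x⁻¹, δ.symm, Φ.symm.trans ((conjL x θ).trans δ), Φ, ?_, ?_, ?_, ?_⟩
  · -- diagonal
    obtain ⟨χ, hχ, hk1, hk2⟩ := h2 D F z η hC.hP hchain k⁻¹ (inv_mem hk)
    refine ⟨χ, hχ, fun g => ?_⟩
    have e1 : ((δ.symm g : ↥(D.group F)) : GL D.Idx F) = k⁻¹ * (g : GL D.Idx F) * k := by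
      have e0 := hδ (δ.symm g)
      rw [MulEquiv.apply_symm_apply] at e0
      rw [e0]
      group
    rw [inv_inv] at hk2
    rw [e1, Units.val_mul, Units.val_mul, hk1, hk2]
  · -- graph
    have hπf : Function.Injective (fun i : Fin D.rank => (⟨π i, hπ i i.2⟩ : Fin D.rank)) :=
      fun i j hij => Fin.ext (hinj i i.2 j j.2 (congrArg Fin.val hij))
    refine ⟨Equiv.ofBijective _ (Finite.injective_iff_bijective.mp hπf), ?_, ?_⟩
    · intro i j hij
      have hij' : (i : ℕ) ≠ j := fun h => hij (Fin.ext h)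
      show D.bonds (π i) (π j) = D.bonds i j
      unfold ChevalleyDatum.bonds
      rw [hcz (π i) (hπ i i.2) (π j) (hπ j j.2), hcz (π j) (hπ j j.2) (π i) (hπ i i.2),
        hcz i i.2 j j.2, hcz j j.2 i i.2]
      by_cases hz1 : z (D.simple j) (D.simple i) = 0
      · have e : z (D.simple (π j)) (D.simple (π i)) = 0 := by
          by_contra hne
          exact ((hadj i i.2 j j.2 hij').1 hne) hz1
        rw [hz1, e, mul_zero, mul_zero]
      by_cases hz2 : z (D.simple i) (D.simple j) = 0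
      · have e : z (D.simple (π i)) (D.simple (π j)) = 0 := by
          by_contra hne
          exact ((hadj j j.2 i i.2 (Ne.symm hij')).1 hne) hz2
        rw [hz2, e, zero_mul, zero_mul]
      have hz1' := (hadj i i.2 j j.2 hij').2 hz1
      have hz2' := (hadj j j.2 i i.2 (Ne.symm hij')).2 hz2
      have hπij : π i ≠ π j := fun h => hij' (hinj i i.2 j j.2 h)
      rw [hA i i.2 j j.2 hij' hz1, hA j j.2 i i.2 (Ne.symm hij') hz2,
        hA (π i) (hπ i i.2) (π j) (hπ j j.2) hπij hz1',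
        hA (π j) (hπ j j.2) (π i) (hπ i i.2) (Ne.symm hπij) hz2']
      rcases hπlen π hπ hinj hadj with hl | hl
      · rw [hl i i.2, hl j j.2]
      · rw [hl i i.2, hl j j.2]
        cases D.isLong (D.simple (i : ℕ)) <;> cases D.isLong (D.simple (j : ℕ)) <;> simp
    · intro g i t
      constructor
      · intro hg
        have hg' : g = xG hC.hP.sem (D.simple i) t := eq_xG_of_val' hC.hP.sem g _ t hg
        have e : (Φ.symm.trans ((conjL x θ).trans δ)) (xG hC.hP.sem (D.simple i) t) =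
            xG hC.hP.sem (D.simple (π i)) (t ^ D.graphExp (ringChar F) i (π i)) := by
          rw [MulEquiv.trans_apply, hΦs, hpos i i.2, he i i.2, RingEquiv.apply_symm_apply]
        rw [hg', e]
        rfl
      · intro hg
        have hg' : g = xG hC.hP.sem (D.neg (D.simple i)) t := eq_xG_of_val' hC.hP.sem g _ t hg
        have e : (Φ.symm.trans ((conjL x θ).trans δ)) (xG hC.hP.sem (D.neg (D.simple i)) t) =
            xG hC.hP.sem (D.neg (D.simple (π i))) (t ^ D.graphExp (ringChar F) i (π i)) := by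
          rw [MulEquiv.trans_apply, hΦs, hneg i i.2, he i i.2, RingEquiv.apply_symm_apply]
        rw [hg', e]
        rfl
  · -- field
    refine ⟨σ, fun g r t _ hg => ?_⟩
    rw [eq_xG_of_val' hC.hP.sem g r t hg, hΦx]
    rfl
  · -- the formula
    intro y
    rw [MulEquiv.trans_apply, MulEquiv.symm_apply_apply, MulEquiv.trans_apply,
      MulEquiv.symm_apply_apply, conjL_apply, inv_inv]
    group

example (h1 : Cfsg.Agent.H87.StbD.StAlg2.{u}) (h2 : StRootChar.{u})
    (h3 : Cfsg.Agent.H23.Stb.StField.{u}) : StDecomp2.{u} := decomp2 h1 h2 h3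

/-- SD-DECOMP, corrected and closed: from the landed pieces `alg2` (helper87), `rootChar`
(helper27), `field` (helper70). -/
theorem decomp2Closed : StDecomp2.{u} :=
  decomp2 Cfsg.Agent.H87.StbD.alg2 Cfsg.Agent.H27.StbD.rootChar Cfsg.Agent.H70.Stb.field

example : StDecomp2.{u} := decomp2Closed

end Cfsg.Agent.H85.StbD
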